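import Mathlib
import Cfsg.Prelude.Def_GeometricClasses
import Cfsg.Agent.Lib.Helper27.ASC.Defs
import Cfsg.Agent.Lib.helper23.ASCO.Defs
import Cfsg.Agent.Lib.Helper25.ASO.Defs

/-!
# Project ASE (leader: helper23) : even-dimensional orthogonal groups, ALL characteristics.
First target S5826 : the maximal subgroups of `Ω_8^-(q)` (case list).

Shared vocabulary.  `ConclE8 Q H` is the conclusion of the frozen S5826, for a form `Q` on `F^8`.
`KronGram f e P A B` : in the coordinates `(e, P)` the Gram matrix of the bilinear form `f` is the Kronecker product `A ⊗ B`.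
The adjoint `oadj`, `IsIdemSystem` are those of project ASO (`Helper25.ASO.Defs`); `NormalIn`, `Irr`, `AbsIrr`, `centAlg`,
`MinNonscalar`, `AllNormalAbsIrr` those of ASC (`Helper27.ASC.Defs`).
-/

set_option autoImplicit false

namespace Cfsg.Agent.Lib.helper23.ASE

open Cfsg Cfsg.Geo Cfsg.Agent.Lib.Helper27.ASC
open scoped MatrixGroups Matrix Kronecker

variable {n : ℕ} {F : Type*} [Field F]

/-- the conclusion of S5826 -/
def ConclE8 [Fintype F] (Q : (Fin 8 → F) → F) (H : Subgroup (GL (Fin 8) F)) : Prop :=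
  (∃ W : Submodule F (Fin 8 → F), W ≠ ⊥ ∧ IsTotallySingularQuad Q W ∧ H = subspaceStabilizer W ⊓ omegaGL Q) ∨
  (Odd (Fintype.card F) ∧ ∃ W : Submodule F (Fin 8 → F), W ≠ ⊥ ∧ W ≠ ⊤ ∧ Odd (Module.finrank F W) ∧
      IsNondegenerateOn (QuadraticMap.polar Q) W ∧ H = subspaceStabilizer W ⊓ omegaGL Q) ∨
  (∃ W : Submodule F (Fin 8 → F), Module.finrank F W = 2 ∧ IsNondegenerateOn (QuadraticMap.polar Q) W ∧
      ¬ IsPlusTypeOn Q W ∧ H = subspaceStabilizer W ⊓ omegaGL Q) ∨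
  (4 ≤ Fintype.card F ∧ ∃ W : Submodule F (Fin 8 → F), Module.finrank F W = 2 ∧
      IsNondegenerateOn (QuadraticMap.polar Q) W ∧ IsPlusTypeOn Q W ∧ H = subspaceStabilizer W ⊓ omegaGL Q) ∨
  (∃ W : Submodule F (Fin 8 → F), Module.finrank F W = 4 ∧ IsNondegenerateOn (QuadraticMap.polar Q) W ∧
      H = subspaceStabilizer W ⊓ omegaGL Q) ∨
  (¬ Odd (Fintype.card F) ∧ ∃ v : (Fin 8 → F), Q v ≠ 0 ∧
      H = subspaceStabilizer (Submodule.span F {v}) ⊓ omegaGL Q) ∨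
  (∃ K : Subalgebra F (Matrix (Fin 8) (Fin 8) F), IsFieldSubalgebra 2 K ∧
      H = subalgebraNormalizer K ⊓ omegaGL Q) ∨
  (∃ (F₀ : Subfield F) (r : ℕ) (P : GL (Fin 8) F) (ζ : F), r.Prime ∧ Odd r ∧
      Fintype.card F = Nat.card F₀ ^ r ∧ ζ ≠ 0 ∧
      IsQuadFormRationalStructure (fun v : Fin 8 → F => ζ * Q v) F₀ P ∧
      H = subfieldSubgroup F₀ P ⊓ omegaGL Q) ∨
  InOrthogonalResidualClass H

/-- in the coordinates `(e, P)` (`e : Fin n ≃ Fin k × Fin d`, basis = the columns of `P`) the Gram matrix of `f` is `A ⊗ B` -/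
def KronGram (f : (Fin n → F) → (Fin n → F) → F) {k d : ℕ} (e : Fin n ≃ Fin k × Fin d) (P : GL (Fin n) F)
    (A : Matrix (Fin k) (Fin k) F) (B : Matrix (Fin d) (Fin d) F) : Prop :=
  ∀ x y : Fin k × Fin d → F,
    f ((P : Matrix (Fin n) (Fin n) F) *ᵥ (x ∘ e)) ((P : Matrix (Fin n) (Fin n) F) *ᵥ (y ∘ e)) =
      formOfGram id (A ⊗ₖ B) x y

/-- the pure tensor `u ⊗ w` in the coordinates `(e, P)` -/
def pureVec {k d : ℕ} (e : Fin n ≃ Fin k × Fin d) (P : GL (Fin n) F) (u : Fin k → F) (w : Fin d → F) :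
    Fin n → F :=
  (P : Matrix (Fin n) (Fin n) F) *ᵥ ((fun a : Fin k × Fin d => u a.1 * w a.2) ∘ e)

end Cfsg.Agent.Lib.helper23.ASE
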